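import Cfsg.Agent.Lib.Helper28.Fi22Ord.C28.Defs

set_option autoImplicit false
set_option linter.unusedVariables false

namespace Cfsg.Agent.Lib.Helper28.Fi22Ord.C28

open Cfsg.Agent.Lib.Helper28.Fi22Sub.P7 (Gen)
open Cfsg.Agent.Lib.Helper28.TC

noncomputable section

def permP (i : ℕ) : Bool := band (permRowOK tf nn gens i) (relRowOK tf relWords i)
def factP (u : ℕ) : Bool := band (allList (fun x => checkE C x u) gens) (band (checkA C u) (guard NN (treeRowOK C tf fin) u))
def closedP (i : ℕ) : Bool := closedRowOK C tf fin rowOf NN RR gens i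

end

end Cfsg.Agent.Lib.Helper28.Fi22Ord.C28
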