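import Cfsg.Agent.Lib.Helper28.TCCheck
import Cfsg.Agent.Lib.Helper28.Fi22Ord.Sub

set_option autoImplicit false
set_option linter.unusedVariables false

namespace Cfsg.Agent.Lib.Helper28.Fi22Ord.C28

open Cfsg.Agent.Lib.Helper28.Fi22Sub.P7 (Gen)
open Cfsg.Agent.Lib.Helper28.TC

noncomputable section

def hotA_c0 : ℕ := 0x0
def hotA : ℕ := hotA_c0
def coldA_c0 : ℕ := 0x0
def coldA : ℕ := coldA_c0
def treeT_c0 : ℕ := 0xdb2da55b26b6154bb27644eaa8d1109921253e28740cd7a18e32da25b0ca5912a2212c3a185380a6610a221083198424042a00000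
def treeT : ℕ := treeT_c0
def rowT_c0 : ℕ := 0x6da6585d65544d24503ce34c2ca2481c61440c2040
def rowT : ℕ := rowT_c0

end

end Cfsg.Agent.Lib.Helper28.Fi22Ord.C28
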