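import Cfsg.Agent.Lib.Helper28.TCCheck
import Cfsg.Agent.Lib.Helper28.Fi22Ord.Sub

set_option autoImplicit false
set_option linter.unusedVariables false

namespace Cfsg.Agent.Lib.Helper28.Fi22Ord.C28

open Cfsg.Agent.Lib.Helper28.Fi22Sub.P7 (Gen)
open Cfsg.Agent.Lib.Helper28.TC

noncomputable section

def hotE0_c0 : ℕ := 0xba72cdbad6a9599e62617914e25583524167641b91754988d5a3984f4e2d34c4024fca3018a872f2078517104030908041
def hotE0 : ℕ := hotE0_c0
def coldE0_c0 : ℕ := 0x580c5d6031b580c3d4031b4c0c5d3031300012900313400c2cf031b0000f8d030f300c4c00032280c1ca030f0000a88030b00008850317000058403170000003030b080c3c10313000c6c001cb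
def coldE0 : ℕ := coldE0_c0
def tfT0_c0 : ℕ := 0xdeb38bda549d5f08b1ae52d09298e418820
def tfT0 : ℕ := tfT0_c0

end

end Cfsg.Agent.Lib.Helper28.Fi22Ord.C28
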