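import Cfsg.Agent.Lib.Helper28.TCCheck
import Cfsg.Agent.Lib.Helper28.Fi22Ord.Sub

set_option autoImplicit false
set_option linter.unusedVariables false

namespace Cfsg.Agent.Lib.Helper28.Fi22Ord.C28

open Cfsg.Agent.Lib.Helper28.Fi22Sub.P7 (Gen)
open Cfsg.Agent.Lib.Helper28.TC

noncomputable section

def hotE1_c0 : ℕ := 0xbb72d1bae6a9d69f62657a6662d28451f138a55c0f6841bd1593150d58391cb4128e473120e09231488618104430a08081
def hotE1 : ℕ := hotE1_c0
def coldE1_c0 : ℕ := 0x580ccd60337580cac000564c0ccd3032f440cdc00046380c9cf0337380cbc0003a300cbcb032b0000b8a032b000000603271c0ccc0001a14081c4033300004800000080cac1032f000cdc001cf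
def coldE1 : ℕ := coldE1_c0
def tfT1_c0 : ℕ := 0xdeb35bdb119ca8e7c16c6a9263a08518820
def tfT1 : ℕ := tfT1_c0

end

end Cfsg.Agent.Lib.Helper28.Fi22Ord.C28
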