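import Cfsg.Agent.Lib.Helper28.TCCheck
import Cfsg.Agent.Lib.Helper28.Fi22Ord.Sub

set_option autoImplicit false
set_option linter.unusedVariables false

namespace Cfsg.Agent.Lib.Helper28.Fi22Ord.C28

open Cfsg.Agent.Lib.Helper28.Fi22Sub.P7 (Gen)
open Cfsg.Agent.Lib.Helper28.TC

noncomputable section

def hotE2_c0 : ℕ := 0xbc72d99af6ad5ba0626d5925a6978245f53774a05469418cf5b3954d4c291894b3114b3220ac724187441c144830b080c1
def hotE2 : ℕ := hotE2_c0
def coldE2_c0 : ℕ := 0x500d3c00062500d1d40353400d3c00052440d4d0034b000108f0353380d2c00000300d2c903472c089c80347000098000220000000000014082c3034f10089c0000e0000001034b000d4c001d3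
def coldE2 : ℕ := coldE2_c0
def tfT2_c0 : ℕ := 0xde33abd2b684a337b9ac4a16a398a320820
def tfT2 : ℕ := tfT2_c0

end

end Cfsg.Agent.Lib.Helper28.Fi22Ord.C28
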