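import Cfsg.Agent.Lib.Helper28.TCCheck
import Cfsg.Agent.Lib.Helper28.Fi22Ord.Sub

set_option autoImplicit false
set_option linter.unusedVariables false

namespace Cfsg.Agent.Lib.Helper28.Fi22Ord.C28

open Cfsg.Agent.Lib.Helper28.Fi22Sub.P7 (Gen)
open Cfsg.Agent.Lib.Helper28.TC

noncomputable section

def hotE3_c0 : ℕ := 0xbf6f01cac5ea19a162ada935a3158551f937849b4e6a4180c6c454cb5f3d48d4228e893320b0725187c5160c5440c08101
def hotE3 : ℕ := hotE3_c0
def coldE3_c0 : ℕ := 0x48131c0006e0001694036f4c0dac00000440dbcd036740091cf036f2c0d9c00036280d9c0002e0000000002a000000000001c0dac5036b14083c4036b1008ac3024700002800000000dbc001d7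
def coldE3 : ℕ := coldE3_c0
def tfT3_c0 : ℕ := 0xd6ed8be6b49ca2d7ae0a73128398a410c20
def tfT3 : ℕ := tfT3_c0

end

end Cfsg.Agent.Lib.Helper28.Fi22Ord.C28
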