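import Cfsg.Agent.Lib.Helper28.TCCheck
import Cfsg.Agent.Lib.Helper28.Fi22Ord.Sub

set_option autoImplicit false
set_option linter.unusedVariables false

namespace Cfsg.Agent.Lib.Helper28.Fi22Ord.C28

open Cfsg.Agent.Lib.Helper28.Fi22Sub.P7 (Gen)
open Cfsg.Agent.Lib.Helper28.TC

noncomputable section

def hotE4_c0 : ℕ := 0xbe62ddbb06aa59bd725d4945a211965dfd3743e1d56735cd25c399904f3120b4328ec93420b47261880519103c20e0c141
def hotE4 : ℕ := hotE4_c0
def coldE4_c0 : ℕ := 0x1793038b58099d0038b4c0e1c0004e380e2c00042000000c038b0000e8000000000c8000002c08bc0000024092c8024b1c0e1c5038714084c403871008bc3024b08099c00006000000001db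
def coldE4 : ℕ := coldE4_c0
def tfT4_c0 : ℕ := 0xbeb38dceb0b49d4645af5a928398a418440
def tfT4 : ℕ := tfT4_c0

end

end Cfsg.Agent.Lib.Helper28.Fi22Ord.C28
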