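import Cfsg.Agent.Lib.Helper28.TCCheck
import Cfsg.Agent.Lib.Helper28.Fi22Ord.Sub

set_option autoImplicit false
set_option linter.unusedVariables false

namespace Cfsg.Agent.Lib.Helper28.Fi22Ord.C28

open Cfsg.Agent.Lib.Helper28.Fi22Sub.P7 (Gen)
open Cfsg.Agent.Lib.Helper28.TC

noncomputable section

def hotE5_c0 : ℕ := 0xc36ac97c472915a262c5b8f4a8d98651ed08e59c917a4d94f5e395cd513128b4428f093520b8727188451b1050308041c2
def hotE5 : ℕ := hotE5_c0
def coldE5_c0 : ℕ := 0x6c11bc0005a0001b8000524c0a9c000000001180000040094c0003e000000d026f000000b026f2c08dca026f24094c802531c0a9c502a714086c402a71008dc302530809bc1028b00000800000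
def coldE5 : ℕ := coldE5_c0
def tfT5_c0 : ℕ := 0xcdb74bea389beb0939ac5a928398a418801
def tfT5 : ℕ := tfT5_c0

end

end Cfsg.Agent.Lib.Helper28.Fi22Ord.C28
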