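import Cfsg.Agent.Lib.Helper28.TCCheck
import Cfsg.Agent.Lib.Helper28.Fi22Ord.Sub

set_option autoImplicit false
set_option linter.unusedVariables false

namespace Cfsg.Agent.Lib.Helper28.Fi22Ord.C28

open Cfsg.Agent.Lib.Helper28.Fi22Sub.P7 (Gen)
open Cfsg.Agent.Lib.Helper28.TC

noncomputable section

def hotE6_c0 : ℕ := 0xb95f09ac16ea999d52e1c955a3559c620137949c516b4190f5d3958d503124b3e20dc63d28a453624a071a104c30d08181
def hotE6 : ℕ := hotE6_c0
def coldE6_c0 : ℕ := 0x168000666c09ad403a700013800000440e9d00287000000f03a7380a1cd026b300a1cb026b2c08cca026b24093c8024f0000780001600000000012000000000000809ac10287000e9c001df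
def coldE6 : ℕ := coldE6_c0
def tfT6_c0 : ℕ := 0xb67589eeb4bca307b9ac5a8e54910618820
def tfT6 : ℕ := tfT6_c0

end

end Cfsg.Agent.Lib.Helper28.Fi22Ord.C28
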