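import Cfsg.Agent.Lib.Helper28.Fi22Ord.C28.Defs
import Cfsg.Agent.Lib.Helper28.TCOrbit

set_option autoImplicit false
set_option linter.unusedVariables false
set_option Elab.async false

namespace Cfsg.Agent.Lib.Helper28.Fi22Ord.C28

open Cfsg.Agent.Lib.Helper28.Fi22Sub.P7 (Gen)
open Cfsg.Agent.Lib.Helper28.TC

noncomputable section

def orbT_c0 : ℕ := 0xb66372d5d98ad39b35b26b4e1ec82950522b06392b6a58c42d684ad0b51d493a90669ccd295052b4844908a18d621302140008000
def orbT : ℕ := orbT_c0
def orbE (i : ℕ) : ℕ := look orbT 15 32767 i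
/-- orbit certificate of the orbit number `j` with root `r` -/
def OC (j r : ℕ) : OrbCert where
  inO := fun i => Nat.beq (Nat.land (orbE i) 3) j
  dep := fun i => Nat.land (Nat.shiftRight (orbE i) 2) 31
  opar := fun i => Nat.land (Nat.shiftRight (orbE i) 7) 31
  ogen := fun i => Nat.shiftRight (orbE i) 12
  root := r

def orbP1 (i : ℕ) : Bool := orbRowOK tf nn subWords (OC 1 1) i
theorem orbP1_blk0 : allRange (guard nn orbP1) 4 (0 * 2 ^ 4) = true := by decide +kernel
theorem orbP1_blk1 : allRange (guard nn orbP1) 4 (1 * 2 ^ 4) = true := by decide +kernel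
theorem orbP1_all : ∀ i, i < nn → orbP1 i = true := by
  refine all_of_blocks nn orbP1 4 2 (by decide) ?_
  intro k hk
  interval_cases k
  · exact orbP1_blk0
  · exact orbP1_blk1
theorem orb1_count : countRange (fun i => band (nlt i nn) ((OC 1 1).inO i)) 5 0 = 27 := by decide +kernel
theorem orb1_root : (OC 1 1).inO 1 = true := by decide +kernel
theorem nn_le_pow : nn ≤ 2 ^ 5 := by decide


end

end Cfsg.Agent.Lib.Helper28.Fi22Ord.C28
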